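import Cfsg.Agent.H777.ElimDef
import Cfsg.Agent.H749.Val
import Cfsg.Agent.S0245
import Cfsg.Agent.S0246
import Cfsg.Agent.LFourR.LiftPlus
import Cfsg.Prelude.Def_Classical

/-!
# Large abelian 3-subgroups of `PSp_{2m}(q)`, `3 ∤ q` (helper978, for S5229/S5231)

* `exists_P` : `SL(2, F)` has an abelian Sylow 3-subgroup of order `3 ^ v_3(q ^ 2 - 1)`.
* `am_ge` : the arithmetic.
* `row_psp`.
-/

set_option autoImplicit false

namespace Cfsg.Agent.H978.ThreeTor

open Matrix
open Cfsg.Agent.H777.Elim Cfsg.Agent.H749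

/-- matrices commuting with a non-scalar 2×2 matrix commute -/
theorem comm_two {F : Type*} [Field F] {z A B : Matrix (Fin 2) (Fin 2) F}
    (hz : ¬ (z 0 1 = 0 ∧ z 1 0 = 0 ∧ z 0 0 = z 1 1)) (hA : A * z = z * A) (hB : B * z = z * B) : A * B = B * A := by
  have a00 := congrFun (congrFun hA 0) 0
  have a01 := congrFun (congrFun hA 0) 1
  have a10 := congrFun (congrFun hA 1) 0
  have b00 := congrFun (congrFun hB 0) 0
  have b01 := congrFun (congrFun hB 0) 1
  have b10 := congrFun (congrFun hB 1) 0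
  simp only [Matrix.mul_apply, Fin.sum_univ_two] at a00 a01 a10 b00 b01 b10
  -- the vectors `(A01, A10, A00 - A11)` and `(z01, z10, z00 - z11)` are parallel
  have key : A 0 1 * B 1 0 = B 0 1 * A 1 0 ∧ (A 0 0 - A 1 1) * B 0 1 = (B 0 0 - B 1 1) * A 0 1 ∧
      (A 0 0 - A 1 1) * B 1 0 = (B 0 0 - B 1 1) * A 1 0 := by
    by_cases h1 : z 0 1 = 0
    · by_cases h2 : z 1 0 = 0
      · have h3 : z 0 0 - z 1 1 ≠ 0 := fun h => hz ⟨h1, h2, sub_eq_zero.1 h⟩
        have e1 : A 0 1 = 0 := by
          have : (z 0 0 - z 1 1) * A 0 1 = 0 := by rw [h1] at a01; linear_combination -a01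
          exact (mul_eq_zero.1 this).resolve_left h3
        have e2 : A 1 0 = 0 := by
          have : (z 0 0 - z 1 1) * A 1 0 = 0 := by rw [h2] at a10; linear_combination a10
          exact (mul_eq_zero.1 this).resolve_left h3
        have e3 : B 0 1 = 0 := by
          have : (z 0 0 - z 1 1) * B 0 1 = 0 := by rw [h1] at b01; linear_combination -b01
          exact (mul_eq_zero.1 this).resolve_left h3
        have e4 : B 1 0 = 0 := by
          have : (z 0 0 - z 1 1) * B 1 0 = 0 := by rw [h2] at b10; linear_combination b10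
          exact (mul_eq_zero.1 this).resolve_left h3
        rw [e1, e2, e3, e4]
        simp
      · refine ⟨?_, ?_, ?_⟩ <;> refine mul_left_cancel₀ h2 ?_
        · linear_combination (B 1 0) * a00 - (A 1 0) * b00
        · rw [h1] at a00 b00 a01 b01
          have e1 : A 0 1 = 0 := by
            have : z 1 0 * A 0 1 = 0 := by linear_combination a00
            exact (mul_eq_zero.1 this).resolve_left h2
          have e2 : B 0 1 = 0 := by
            have : z 1 0 * B 0 1 = 0 := by linear_combination b00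
            exact (mul_eq_zero.1 this).resolve_left h2
          rw [e1, e2]
          simp
        · linear_combination (-B 1 0) * a10 + (A 1 0) * b10
    · refine ⟨?_, ?_, ?_⟩ <;> refine mul_left_cancel₀ h1 ?_
      · linear_combination (B 0 1) * a00 - (A 0 1) * b00
      · linear_combination (B 0 1) * a01 - (A 0 1) * b01
      · have e1 : z 0 1 * (A 0 0 - A 1 1) = A 0 1 * (z 0 0 - z 1 1) := by linear_combination a01
        have e2 : z 0 1 * (B 0 0 - B 1 1) = B 0 1 * (z 0 0 - z 1 1) := by linear_combination b01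
        have e3 : z 0 1 * A 1 0 = A 0 1 * z 1 0 := by linear_combination -a00
        have e4 : z 0 1 * B 1 0 = B 0 1 * z 1 0 := by linear_combination -b00
        refine mul_left_cancel₀ h1 ?_
        linear_combination (z 0 1 * B 1 0) * e1 - (z 0 1 * A 1 0) * e2 + A 0 1 * (z 0 0 - z 1 1) * e4
          - B 0 1 * (z 0 0 - z 1 1) * e3
  obtain ⟨k1, k2, k3⟩ := key
  ext i j
  fin_cases i <;> fin_cases j <;> simp only [Matrix.mul_apply, Fin.sum_univ_two] <;> simp
  · linear_combination k1
  · linear_combination k2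
  · linear_combination -k3
  · linear_combination -k1

section syl

variable {F : Type*} [Field F] [Fintype F]

/-- `SL(2, F)`, `3 ∤ |F|`, has an abelian Sylow 3-subgroup. -/
theorem exists_P (_h3 : (3 : F) ≠ 0) : ∃ P : Subgroup (SpecialLinearGroup (Fin 2) F), IsPGroup 3 P ∧
    (∀ x ∈ P, ∀ y ∈ P, x * y = y * x) ∧
    Nat.card P = 3 ^ (Nat.card (SpecialLinearGroup (Fin 2) F)).factorization 3 := by
  have hf : Fact (Nat.Prime 3) := ⟨Nat.prime_three⟩
  obtain ⟨P⟩ : Nonempty (Sylow 3 (SpecialLinearGroup (Fin 2) F)) := inferInstance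
  refine ⟨P, P.isPGroup', ?_, P.card_eq_multiplicity⟩
  rcases subsingleton_or_nontrivial (P : Subgroup (SpecialLinearGroup (Fin 2) F)) with hs | hn
  · intro x hx y hy
    have h1 : (⟨x, hx⟩ : P) = ⟨y, hy⟩ := Subsingleton.elim _ _
    have h2 : x = y := congrArg Subtype.val h1
    rw [h2]
  · have hc := P.isPGroup'.center_nontrivial
    obtain ⟨⟨z, hz⟩, hz1⟩ := exists_ne (1 : Subgroup.center (P : Subgroup (SpecialLinearGroup (Fin 2) F)))
    have hcz : ∀ x ∈ (P : Subgroup (SpecialLinearGroup (Fin 2) F)), x.1 * z.1.1 = z.1.1 * x.1 := by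
      intro x hx
      have := Subgroup.mem_center_iff.1 hz ⟨x, hx⟩
      exact congrArg (fun g : P => (g.1 : SpecialLinearGroup (Fin 2) F).1) this
    have hns : ¬ (z.1.1 0 1 = 0 ∧ z.1.1 1 0 = 0 ∧ z.1.1 0 0 = z.1.1 1 1) := by
      rintro ⟨e1, e2, e3⟩
      apply hz1
      -- `z` is scalar with `z ^ 2 = 1`
      have hd := z.1.2
      rw [det_fin_two, e1, e2, ← e3, mul_zero, sub_zero] at hd
      have h2 : z.1 * z.1 = 1 := by
        apply Subtype.ext
        change z.1.1 * z.1.1 = 1
        ext i j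
        fin_cases i <;> fin_cases j <;> simp [Matrix.mul_apply, Fin.sum_univ_two, e1, e2, ← e3, hd]
      obtain ⟨k, hk⟩ := P.isPGroup' z
      have h4 : z ^ 2 = 1 := Subtype.ext (by rw [pow_two]; exact h2)
      have h5 : z ^ Nat.gcd 2 (3 ^ k) = 1 := pow_gcd_eq_one.2 ⟨h4, hk⟩
      have h6 : Nat.gcd 2 (3 ^ k) = 1 := Nat.Coprime.pow_right k (by norm_num)
      rw [h6, pow_one] at h5
      exact Subtype.ext h5
    intro x hx y hy
    apply Subtype.ext
    exact comm_two hns (hcz x hx) (hcz y hy)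

end syl

/-! ### the arithmetic -/

theorem three_not_dvd {F : Type*} [Field F] [Fintype F] (h3 : (3 : F) ≠ 0) : ¬ (3 : ℤ) ∣ (Fintype.card F : ℤ) := by
  intro h
  apply h3
  have h1 : (3 : ℕ) ∣ Fintype.card F := by exact_mod_cast h
  obtain ⟨p, hp⟩ := CharP.exists F
  have hpp : Nat.Prime p := CharP.char_is_prime F p
  obtain ⟨n, -, hn⟩ := FiniteField.card F p
  rw [hn] at h1
  have h2 : 3 ∣ p := Nat.prime_three.dvd_of_dvd_pow h1
  have h4 : 3 = p := (Nat.prime_dvd_prime_iff_eq Nat.prime_three hpp).1 h2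
  subst h4
  exact_mod_cast CharP.cast_eq_zero F 3

/-- the 3-part of `∏ (q ^ (2 i) - 1)` -/
theorem fact_prod {q : ℕ} (hq : 1 < q) (h3 : ¬ (3 : ℤ) ∣ (q : ℤ)) (m : ℕ) :
    (∏ i ∈ Finset.range m, (q ^ (2 * (i + 1)) - 1)).factorization 3 =
      m * (q ^ 2 - 1).factorization 3 + m.factorial.factorization 3 := by
  have hdec : ∀ x : ZMod 3, x ≠ 0 → x ^ 2 = 1 := by decide
  have hf : Fact (Nat.Prime 3) := ⟨Nat.prime_three⟩
  have h1 : orderOf (((q : ℤ) ^ 2 : ℤ) : ZMod 3) = 1 := by
    rw [orderOf_eq_one_iff]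
    have hne : ((q : ℤ) : ZMod 3) ≠ 0 := by
      intro h
      exact h3 ((ZMod.intCast_zmod_eq_zero_iff_dvd _ 3).1 h)
    push_cast at hne ⊢
    exact hdec _ hne
  have hq2 : (1 : ℤ) < (q : ℤ) ^ 2 := by
    have : (1 : ℤ) < q := by exact_mod_cast hq
    nlinarith
  have h2 := vp_prod (p := 3) (by norm_num) h1 (fun i hi h => by
    have := one_lt_pow₀ hq2 hi
    omega) m
  have h4 : vp 3 (∏ i ∈ Finset.range m, (((q : ℤ) ^ 2) ^ (i + 1) - 1)) =
      (∏ i ∈ Finset.range m, (q ^ (2 * (i + 1)) - 1)).factorization 3 := by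
    rw [← vp_natCast]
    congr 1
    rw [Nat.cast_prod]
    refine Finset.prod_congr rfl fun i _ => ?_
    rw [Nat.cast_sub (Nat.one_le_pow _ _ (by omega))]
    push_cast
    rw [pow_mul]
  have h5 : vp 3 (((q : ℤ) ^ 2) ^ 1 - 1) = (q ^ 2 - 1).factorization 3 := by
    rw [← vp_natCast]
    congr 1
    rw [Nat.cast_sub (Nat.one_le_pow _ _ (by omega))]
    push_cast
    rw [pow_one]
  rw [h4, h5, Nat.div_one] at h2
  exact h2

theorem fact_le (m : ℕ) : 2 * m.factorial.factorization 3 ≤ m := by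
  have hf : Fact (Nat.Prime 3) := ⟨Nat.prime_three⟩
  have h1 := sub_one_mul_padicValNat_factorial (p := 3) m
  rw [← Nat.factorization_def _ Nat.prime_three] at h1
  omega

theorem a_pos {q : ℕ} (hq : 1 < q) (h3 : ¬ (3 : ℤ) ∣ (q : ℤ)) : 1 ≤ (q ^ 2 - 1).factorization 3 := by
  have h0 : q ^ 2 - 1 ≠ 0 := by
    have : 1 < q ^ 2 := one_lt_pow₀ hq (by norm_num)
    omega
  rw [Nat.one_le_iff_ne_zero, ← Nat.pos_iff_ne_zero]
  apply Nat.prime_three.factorization_pos_of_dvd h0
  have h1 : q % 3 = 1 ∨ q % 3 = 2 := by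
    have : ¬ (3 : ℕ) ∣ q := fun h => h3 (by exact_mod_cast h)
    omega
  have h2 : q ^ 2 % 3 = 1 := by
    rw [Nat.pow_mod]
    rcases h1 with h1 | h1 <;> rw [h1]
  omega

/-- the arithmetic -/
theorem am_ge {q m : ℕ} (hq : 1 < q) (h3 : ¬ (3 : ℤ) ∣ (q : ℤ))
    (h : 10 ≤ (∏ i ∈ Finset.range m, (q ^ (2 * (i + 1)) - 1)).factorization 3) :
    6 ≤ m * (q ^ 2 - 1).factorization 3 := by
  rw [fact_prod hq h3] at h
  have h1 := fact_le m
  have h2 : m ≤ m * (q ^ 2 - 1).factorization 3 := Nat.le_mul_of_pos_right m (a_pos hq h3)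
  omega

/-! ### the symplectic groups -/

section psp

variable {m : ℕ} {F : Type} [Field F]

/-- `m` commuting copies of `SL(2, F)` -/
def blk (m : ℕ) (F : Type) [Field F] : (Fin m → SpecialLinearGroup (Fin 2) F) →* symplecticGroup (Fin m) F where
  toFun A := ⟨fromBlocks (diagonal fun i => (A i).1 0 0) (diagonal fun i => (A i).1 0 1)
      (diagonal fun i => (A i).1 1 0) (diagonal fun i => (A i).1 1 1), by
    rw [SymplecticGroup.mem_iff, J, fromBlocks_transpose, fromBlocks_multiply, fromBlocks_multiply]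
    simp only [diagonal_transpose, Matrix.mul_zero, Matrix.mul_one, Matrix.mul_neg, zero_add, add_zero, Matrix.neg_mul,
      diagonal_mul_diagonal]
    have hd : ∀ i, (A i).1 0 0 * (A i).1 1 1 - (A i).1 0 1 * (A i).1 1 0 = 1 := fun i => by
      rw [← det_fin_two]
      exact (A i).2
    rw [fromBlocks_inj]
    refine ⟨?_, ?_, ?_, ?_⟩
    · ext i j
      by_cases hij : i = j
      · subst hij
        simp
        ring
      · simp [hij]
    · ext i j
      by_cases hij : i = j
      · subst hij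
        simp
        linear_combination -hd i
      · simp [hij]
    · ext i j
      by_cases hij : i = j
      · subst hij
        simp
        linear_combination hd i
      · simp [hij]
    · ext i j
      by_cases hij : i = j
      · subst hij
        simp
        ring
      · simp [hij]⟩
  map_one' := by
    apply Subtype.ext
    change fromBlocks _ _ _ _ = (1 : Matrix (Fin m ⊕ Fin m) (Fin m ⊕ Fin m) F)
    rw [← fromBlocks_one, fromBlocks_inj]
    refine ⟨?_, ?_, ?_, ?_⟩ <;> simp
  map_mul' A B := by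
    apply Subtype.ext
    change fromBlocks _ _ _ _ = fromBlocks _ _ _ _ * fromBlocks _ _ _ _
    rw [fromBlocks_multiply]
    simp only [diagonal_mul_diagonal, diagonal_add]
    rw [fromBlocks_inj]
    have e : ∀ i (k l : Fin 2), ((A * B) i).1 k l = (A i).1 k 0 * (B i).1 0 l + (A i).1 k 1 * (B i).1 1 l := by
      intro i k l
      change ((A i).1 * (B i).1) k l = _
      rw [Matrix.mul_apply, Fin.sum_univ_two]
    simp only [e]
    exact ⟨trivial, trivial, trivial, trivial⟩

theorem blk_injective : Function.Injective (blk m F) := by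
  intro A B h
  have h1 := congrArg Subtype.val h
  change fromBlocks _ _ _ _ = fromBlocks _ _ _ _ at h1
  rw [fromBlocks_inj] at h1
  obtain ⟨k1, k2, k3, k4⟩ := h1
  funext i
  apply Subtype.ext
  ext a b
  fin_cases a <;> fin_cases b
  · exact congrFun (diagonal_injective k1) i
  · exact congrFun (diagonal_injective k2) i
  · exact congrFun (diagonal_injective k3) i
  · exact congrFun (diagonal_injective k4) i

theorem row_psp {m : ℕ} (hm : 1 ≤ m) {F : Type} [Field F] [Fintype F] (h3 : (3 : F) ≠ 0) :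
    Cfsg.Agent.H777.Elim.Row (Cfsg.PSp m F) := by
  rintro ⟨hV, -⟩
  have hf : Fact (Nat.Prime 3) := ⟨Nat.prime_three⟩
  obtain ⟨P, hP, hPc, hcard⟩ := exists_P h3
  have hq : 1 < Fintype.card F := Fintype.one_lt_card
  have hq3 := three_not_dvd h3
  -- the order of `SL(2, q)`
  have hsl : (Nat.card (SpecialLinearGroup (Fin 2) F)).factorization 3 = (Fintype.card F ^ 2 - 1).factorization 3 := by
    rw [LFourR.LiftPlus.card_SL2, Nat.factorization_mul Fintype.card_ne_zero (by
      have : 1 < Fintype.card F ^ 2 := one_lt_pow₀ hq (by norm_num)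
      omega), Finsupp.add_apply, Nat.factorization_eq_zero_of_not_dvd (fun h => hq3 (by exact_mod_cast h)), zero_add]
  have ham : 6 ≤ m * (Fintype.card F ^ 2 - 1).factorization 3 := by
    apply am_ge hq hq3
    have h1 := S0245.result (F := F) rfl m
    have h2 : 3 ^ 10 ∣ Nat.card (symplecticGroup (Fin m) F) := by
      refine hV.trans ?_
      exact Subgroup.card_quotient_dvd_card _
    rw [h1] at h2
    have hnz : ∏ i ∈ Finset.range m, (Fintype.card F ^ (2 * (i + 1)) - 1) ≠ 0 := by
      rw [Finset.prod_ne_zero_iff]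
      intro i _
      have : 1 < Fintype.card F ^ (2 * (i + 1)) := one_lt_pow₀ hq (by omega)
      omega
    have h4 : Nat.Coprime (3 ^ 10) (Fintype.card F ^ m ^ 2) := by
      apply Nat.Coprime.pow
      rw [Nat.Prime.coprime_iff_not_dvd Nat.prime_three]
      intro h
      exact hq3 (by exact_mod_cast h)
    have h5 := h4.dvd_of_dvd_mul_left h2
    exact (Nat.Prime.pow_dvd_iff_le_factorization Nat.prime_three hnz).1 h5
  set A : Subgroup (Fin m → SpecialLinearGroup (Fin 2) F) := Subgroup.pi Set.univ fun _ => P with hA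
  have hAmem : ∀ x, x ∈ A ↔ ∀ i, x i ∈ P := fun x => by
    rw [hA, Subgroup.mem_pi]
    simp
  have hA3 : IsPGroup 3 A := by
    rintro ⟨x, hx⟩
    have h1 : ∀ i, ∃ k, x i ^ 3 ^ k = 1 := by
      intro i
      obtain ⟨k, hk⟩ := hP ⟨x i, (hAmem x).1 hx i⟩
      exact ⟨k, congrArg Subtype.val hk⟩
    choose k hk using h1
    refine ⟨∑ i, k i, Subtype.ext ?_⟩
    funext i
    change x i ^ 3 ^ (∑ i, k i) = 1
    rw [← Finset.add_sum_erase _ _ (Finset.mem_univ i), pow_add, pow_mul, hk i, one_pow]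
  have hAc : Nat.card A = (3 ^ (Fintype.card F ^ 2 - 1).factorization 3) ^ m := by
    have e : A ≃ (Fin m → P) :=
      { toFun := fun x i => ⟨x.1 i, (hAmem x.1).1 x.2 i⟩
        invFun := fun x => ⟨fun i => (x i).1, (hAmem _).2 fun i => (x i).2⟩
        left_inv := fun x => rfl
        right_inv := fun x => rfl }
    rw [Nat.card_congr e, Nat.card_fun, hcard, hsl]
    simp
  refine Big.of_hom ((QuotientGroup.mk' (Subgroup.center (symplecticGroup (Fin m) F))).comp (blk m F)) hA3 ?_ ?_ ?_
  · intro x hx y hy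
    funext i
    exact hPc _ ((hAmem x).1 hx i) _ ((hAmem y).1 hy i)
  · rw [hAc, ← pow_mul]
    exact Nat.pow_le_pow_right (by norm_num) (by rw [mul_comm]; exact ham)
  · intro x hx h1
    have h2 : blk m F x ∈ Subgroup.center (symplecticGroup (Fin m) F) := (QuotientGroup.eq_one_iff _).1 h1
    have h4 : (⟨blk m F x, h2⟩ : Subgroup.center (symplecticGroup (Fin m) F)) ^
        Nat.card (Subgroup.center (symplecticGroup (Fin m) F)) = 1 := pow_card_eq_one'
    have h5 : x ^ Nat.card (Subgroup.center (symplecticGroup (Fin m) F)) = 1 := by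
      apply blk_injective
      rw [map_pow, map_one]
      exact congrArg Subtype.val h4
    obtain ⟨k, hk⟩ := hA3 ⟨x, hx⟩
    have h6 : x ^ 3 ^ k = 1 := congrArg Subtype.val hk
    have h7 := pow_gcd_eq_one.2 ⟨h5, h6⟩
    have h8 : Nat.gcd (Nat.card (Subgroup.center (symplecticGroup (Fin m) F))) (3 ^ k) = 1 := by
      rw [S0246.result (F := F) rfl m hm]
      apply Nat.Coprime.pow_right
      exact Nat.Coprime.coprime_dvd_left (Nat.gcd_dvd_left _ _) (by norm_num)
    rw [h8, pow_one] at h7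
    exact h7

end psp

end Cfsg.Agent.H978.ThreeTor
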