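import Cfsg.Agent.H851.SimsForms

/-!
# S3386: reduction of the classical groups `Y / Z(Y)` to `FormsCore` (helper978)

`large_of_core`: `Φ : Y →* (V ≃ₗ[F] V)` injective, `[isom, isom] ≤ Φ(Y) ≤ isom`, the centre of `Y` acts by scalars; the
hypothesis on totally singular vectors has to be checked for sets `T` of at most `K` isometries only.
-/

set_option autoImplicit false

namespace Cfsg.Agent.H978.SimsRed

open Cfsg.Agent.H851.Sims Subgroup

section scal

variable {F V Y : Type} [Field F] [AddCommGroup V] [Module F V] [Group Y] {r : ℕ} [Fact r.Prime] [CharP F r]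
  {Φ : Y →* (V ≃ₗ[F] V)}

theorem scal_pow {z : Y} {a : F} (h : ∀ v, Φ z v = a • v) (n : ℕ) : ∀ v, Φ (z ^ n) v = a ^ n • v := by
  induction n with
  | zero => intro v; simp
  | succ n ih =>
    intro v
    rw [pow_succ, map_mul, LinearEquiv.mul_apply, h, map_smul, ih, smul_smul, pow_succ, mul_comm]

theorem scal_eq_one (hΦ : Function.Injective Φ) {z : Y} {a : F} (h : ∀ v, Φ z v = a • v) {k : ℕ}
    (hz : z ^ r ^ k = 1) : z = 1 := by
  apply hΦ
  rw [map_one]
  apply LinearEquiv.ext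
  intro v
  change Φ z v = v
  rw [h]
  by_cases hv : v = 0
  · rw [hv, smul_zero]
  · have h1 := scal_pow h (r ^ k) v
    rw [hz, map_one] at h1
    have h2 : (1 : F) • v = a ^ r ^ k • v := by rw [one_smul]; exact h1
    have h3 : (1 : F) = a ^ r ^ k := smul_left_injective F hv h2
    have h4 : (a - 1) ^ r ^ k = 0 := by
      rw [sub_pow_char_pow, one_pow, ← h3, sub_self]
    have h5 : a = 1 := sub_eq_zero.1 (pow_eq_zero_iff (pow_ne_zero _ (Fact.out : r.Prime).ne_zero) |>.1 h4)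
    rw [h5, one_smul]

end scal

theorem large_of_core (hC : FormsCore) (c K d : ℕ) : ∃ n₀ : ℕ, ∀ (F V : Type) [Field F] [Finite F] [AddCommGroup V]
    [Module F V] [Module.Finite F V] (r : ℕ) [Fact r.Prime] [CharP F r] (D : FormData F V) (Y : Type) [Group Y] [Finite Y]
    (Φ : Y →* (V ≃ₗ[F] V)), n₀ ≤ Module.finrank F V → Function.Injective Φ → Φ.range ≤ D.isom →
    ⁅D.isom, D.isom⁆ ≤ Φ.range → (∀ z ∈ Subgroup.center Y, ∃ a : F, ∀ v, Φ z v = a • v) →
    (∀ T : Finset (V ≃ₗ[F] V), T.card ≤ K → (T : Set (V ≃ₗ[F] V)) ⊆ D.isom → ∀ W : Submodule F V,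
      (∀ t ∈ T, ∀ w ∈ W, t w ∈ W) → d ≤ Module.finrank F W →
      ∃ v ∈ W, v ≠ 0 ∧ ∀ s ∈ T, ∀ t ∈ T, D.f (s v) (t v) = 0 ∧ D.Q (s v) = 0) →
    ∀ Z : Subgroup (Y ⧸ Subgroup.center Y), Nat.card Z ≤ K → (Nat.card Z).Coprime r →
    ∃ E : Subgroup (Y ⧸ Subgroup.center Y), E ≤ Subgroup.centralizer (Z : Set _) ∧ IsPGroup r E ∧ c < Nat.card E := by
  obtain ⟨n₀, H⟩ := hC c K d
  refine ⟨n₀, ?_⟩
  intro F V _ _ _ _ _ r hr _ D Y _ _ Φ hn hΦ h1 h2 hcen hCW Z hZK hZr
  classical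
  have : Fintype Z := Fintype.ofFinite Z
  set π := QuotientGroup.mk' (Subgroup.center Y) with hπ
  set X : Subgroup (V ≃ₗ[F] V) := (Z.comap π).map Φ with hX
  -- the set of representatives
  let lift : Y ⧸ Subgroup.center Y → Y := fun z => Quotient.out z
  have hlift : ∀ z, π (lift z) = z := fun z => QuotientGroup.out_eq' z
  let T : Finset (V ≃ₗ[F] V) := Finset.univ.image fun z : Z => Φ (lift z.1)
  have hTX : (T : Set (V ≃ₗ[F] V)) ⊆ X := by
    intro t ht
    rw [Finset.mem_coe, Finset.mem_image] at ht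
    obtain ⟨z, -, rfl⟩ := ht
    refine ⟨lift z.1, ?_, rfl⟩
    change π (lift z.1) ∈ Z
    rw [hlift]
    exact z.2
  have hTK : T.card ≤ K := by
    refine le_trans Finset.card_image_le ?_
    rw [Finset.card_univ, ← Nat.card_eq_fintype_card]
    exact hZK
  have hrep : ∀ x ∈ X, ∃ t ∈ T, ∃ a : F, ∀ v, x v = a • t v := by
    rintro _ ⟨y, hy, rfl⟩
    refine ⟨Φ (lift (π y)), ?_, ?_⟩
    · rw [Finset.mem_image]
      exact ⟨⟨π y, hy⟩, Finset.mem_univ _, rfl⟩
    · have h3 : (lift (π y))⁻¹ * y ∈ Subgroup.center Y := by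
        rw [← QuotientGroup.eq]
        exact hlift _
      obtain ⟨a, ha⟩ := hcen _ h3
      refine ⟨a, fun v => ?_⟩
      have h4 : y = lift (π y) * ((lift (π y))⁻¹ * y) := by group
      conv_lhs => rw [h4, map_mul]
      rw [LinearEquiv.mul_apply, ha, map_smul]
  have hXi : X ≤ D.isom := by
    rintro _ ⟨y, -, rfl⟩
    exact h1 ⟨y, rfl⟩
  have hXfin : Finite X := Set.Finite.to_subtype ((Set.toFinite ((Z.comap π : Subgroup Y) : Set Y)).image Φ)
  have hXr : (Nat.card X).Coprime r := by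
    rw [Nat.coprime_comm, Nat.Prime.coprime_iff_not_dvd hr.out]
    intro hd
    obtain ⟨⟨x, y, hy, rfl⟩, hx⟩ := exists_prime_orderOf_dvd_card' r hd
    have h3 : (Φ y) ^ r = 1 := by
      have := pow_orderOf_eq_one (⟨Φ y, y, hy, rfl⟩ : X)
      rw [hx] at this
      exact congrArg Subtype.val this
    have h4 : y ^ r = 1 := by
      apply hΦ
      rw [map_pow, h3, map_one]
    have h5 : π y = 1 := by
      have h6 : (⟨π y, hy⟩ : Z) ^ r = 1 := by
        apply Subtype.ext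
        change π y ^ r = 1
        rw [← map_pow, h4, map_one]
      have h7 : (⟨π y, hy⟩ : Z) ^ Nat.card Z = 1 := pow_card_eq_one'
      have h8 : (⟨π y, hy⟩ : Z) = 1 := by
        have := pow_gcd_eq_one.2 ⟨h7, h6⟩
        rwa [hZr.gcd_eq_one, pow_one] at this
      exact congrArg Subtype.val h8
    obtain ⟨a, ha⟩ := hcen y ((QuotientGroup.eq_one_iff y).1 h5)
    have h9 : y = 1 := scal_eq_one (r := r) (k := 1) hΦ ha (by rw [pow_one]; exact h4)
    have h10 : (⟨Φ y, y, hy, rfl⟩ : X) = 1 := by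
      apply Subtype.ext
      change Φ y = 1
      rw [h9, map_one]
    rw [h10, orderOf_one] at hx
    exact hr.out.one_lt.ne hx
  obtain ⟨E, hE1, hE2, hE3, hE4⟩ := H F V r D X hn hXi hXr ⟨T, hTX, hTK, hrep⟩ (by
    intro W hW hd
    obtain ⟨v, hv, hv0, hT⟩ := hCW T hTK (hTX.trans hXi) W (fun t ht w hw => hW t (hTX ht) w hw) hd
    refine ⟨v, hv, hv0, ?_⟩
    intro x hx y hy
    obtain ⟨s, hs, a, ha⟩ := hrep x hx
    obtain ⟨t, ht, b, hb⟩ := hrep y hy
    rw [ha, hb, D.smul_left, D.smul_right, (hT s hs t ht).1, mul_zero, mul_zero]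
    exact ⟨rfl, D.Q_smul _ _ (hT s hs t ht).2⟩)
  -- back to `Y`
  have hpE : IsPGroup r (E.comap Φ) := hE3.comap_of_injective Φ hΦ
  refine ⟨(E.comap Φ).map π, ?_, hpE.map π, ?_⟩
  · rintro _ ⟨y, hy, rfl⟩
    rw [Subgroup.mem_centralizer_iff]
    intro z hz
    have h3 : Φ (lift z) ∈ X := ⟨lift z, by change π (lift z) ∈ Z; rw [hlift]; exact hz, rfl⟩
    have h4 := Subgroup.mem_centralizer_iff.1 (hE2 hy) _ h3
    rw [← map_mul, ← map_mul] at h4
    have h5 := congrArg π (hΦ h4)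
    rw [map_mul, map_mul, hlift] at h5
    exact h5
  · have h3 : Nat.card ((E.comap Φ).map π) = Nat.card (E.comap Φ) := by
      refine (Nat.card_congr (Equiv.ofBijective (fun y : E.comap Φ => (⟨π y.1, y.1, y.2, rfl⟩ : (E.comap Φ).map π))
        ⟨?_, ?_⟩)).symm
      · intro x y hxy
        have h4 : π x.1 = π y.1 := congrArg Subtype.val hxy
        have h5 : x.1⁻¹ * y.1 ∈ Subgroup.center Y := QuotientGroup.eq.1 h4
        obtain ⟨a, ha⟩ := hcen _ h5
        obtain ⟨k, hk⟩ := hpE ⟨x.1⁻¹ * y.1, mul_mem (inv_mem x.2) y.2⟩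
        have h6 := scal_eq_one (r := r) (k := k) hΦ ha (congrArg Subtype.val hk)
        exact Subtype.ext (inv_mul_eq_one.1 h6)
      · rintro ⟨_, y, hy, rfl⟩
        exact ⟨⟨y, hy⟩, rfl⟩
    have h4 : Nat.card (E.comap Φ) = Nat.card E := by
      refine Nat.card_congr (Equiv.ofBijective (fun y : E.comap Φ => (⟨Φ y.1, y.2⟩ : E)) ⟨?_, ?_⟩)
      · intro x y hxy
        exact Subtype.ext (hΦ (congrArg Subtype.val hxy))
      · rintro ⟨e, he⟩
        obtain ⟨y, rfl⟩ := h2 (hE1 he)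
        exact ⟨⟨y, he⟩, rfl⟩
    rw [h3, h4]
    exact hE4

end Cfsg.Agent.H978.SimsRed
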